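import Cfsg.Agent.H238.Base
import Cfsg.Agent.H42.Tw.F4Asm
import Cfsg.Agent.H565.TwF4Rank
import Cfsg.Agent.OddRank.SzTits
import Cfsg.Agent.H315.RatB0.SzRee
import Cfsg.Agent.Sigma.Pair

/-!
# The groups `Sz(q)`, `²G₂(q)`, `²F₄(q)` and `p` odd: abelian Sylow subgroups or rank at most two (helper23)

* `not_suzuki`, `not_ree` : Sylow `p`-subgroups are cyclic;
* `not_twF` : `²F₄(q)`, Sylow `p`-subgroups are abelian for `p ≥ 5`, the 3-rank is two.
-/

set_option autoImplicit false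
set_option linter.unusedSectionVars false

namespace Cfsg.Agent.H23.LP

open Subgroup Cfsg Cfsg.Lie

universe u

variable {K : Type u} [Group K] [Finite K] {p : ℕ} [hpp : Fact p.Prime]

theorem comm_of_cyclic {G : Type*} [Group G] (h : IsCyclic G) : IsMulCommutative G := by
  refine ⟨⟨fun a b => ?_⟩⟩
  obtain ⟨g, hg⟩ := h.exists_generator
  obtain ⟨i, rfl⟩ := hg a
  obtain ⟨j, rfl⟩ := hg b
  exact ((Commute.refl g).zpow_zpow i j).eq

theorem not_suzuki (hK : IsoSuzuki K) (hp2 : p ≠ 2) (hna : ∀ S : Sylow p K, ¬ IsMulCommutative ↥(S : Subgroup K)) :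
    False := by
  obtain ⟨S⟩ : Nonempty (Sylow p K) := inferInstance
  exact hna S (comm_of_cyclic (OddRank.SzTits.isCyclic_of_isPGroup hK hp2 _ S.isPGroup'))

theorem not_ree (hK : IsoRee K) (hp2 : p ≠ 2) (hp3 : p ≠ 3)
    (hna : ∀ S : Sylow p K, ¬ IsMulCommutative ↥(S : Subgroup K)) : False := by
  obtain ⟨S⟩ : Nonempty (Sylow p K) := inferInstance
  have h2 := hpp.out.two_le
  exact hna S (comm_of_cyclic (H315.RatB0.isCyclic_ree hK (by omega) _ S.isPGroup'))

theorem not_twF (hK : Iso2F4 K) (hp2 : p ≠ 2) (hna : ∀ S : Sylow p K, ¬ IsMulCommutative ↥(S : Subgroup K))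
    (hrk : PRankAtLeast p 3 K) : False := by
  obtain ⟨S⟩ : Nonempty (Sylow p K) := inferInstance
  have h2 := hpp.out.two_le
  by_cases h5 : 5 ≤ p
  · exact hna S (H42.Tw.abelian_of_iso2F4 hK h5 S.isPGroup')
  · have h3 : p = 3 := by
      have h4 : p ≠ 4 := by
        rintro rfl
        exact absurd hpp.out (by norm_num)
      omega
    subst h3
    obtain ⟨F, _, _, m, hm, hF, ⟨e⟩⟩ := hK
    obtain ⟨A, hA, hAp, hc⟩ := hrk
    have h6 := H565.F4R.prankLE_three_twF4 hF (A.map e.toMonoidHom) ?_ ?_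
    · rw [Nat.card_congr (A.equivMapOfInjective _ e.injective).toEquiv.symm] at h6
      omega
    · refine ⟨⟨?_⟩⟩
      rintro ⟨_, a, ha, rfl⟩ ⟨_, b, hb, rfl⟩
      have h3 : a * b = b * a := congrArg Subtype.val (hA.is_comm.comm ⟨a, ha⟩ ⟨b, hb⟩)
      apply Subtype.ext
      change e a * e b = e b * e a
      rw [← map_mul, h3, map_mul]
    · rintro _ ⟨a, ha, rfl⟩
      change (e a) ^ 3 = 1
      rw [← map_pow, hAp a ha, map_one]

end Cfsg.Agent.H23.LP
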